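import Cfsg.Agent.Lib.Helper58.WrSyl.Defs

set_option autoImplicit false

/-! # WrSyl farm (helper58): piece V0, 2-adic valuations of `q ^ k - 1` (helper23) -/

namespace Cfsg.Agent.Lib.Helper23.WrSyl

open Cfsg
open scoped MatrixGroups

/-- [V0a] -/
theorem val_even_pow {q : ℕ} (hq : Odd q) (h1 : 1 < q) (i : ℕ) :
    (q ^ (2 * (i + 1)) - 1).factorization 2 = (q ^ 2 - 1).factorization 2 + (i + 1).factorization 2 := by
  have : Fact (Nat.Prime 2) := ⟨Nat.prime_two⟩
  simp only [Nat.factorization_def _ Nat.prime_two]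
  have h2 : 2 ∣ q - 1 := by
    obtain ⟨c, hc⟩ := hq
    exact ⟨c, by omega⟩
  have hx : ¬ 2 ∣ q := by
    obtain ⟨c, hc⟩ := hq
    omega
  have e1 := padicValNat.pow_two_sub_pow (x := q) (y := 1) h1 h2 hx (n := 2 * (i + 1)) (by omega)
    (even_two_mul _)
  have e2 := padicValNat.pow_two_sub_pow (x := q) (y := 1) h1 h2 hx (n := 2) (by omega)
    even_two
  rw [one_pow] at e1 e2
  have e3 : padicValNat 2 (2 * (i + 1)) = 1 + padicValNat 2 (i + 1) := by
    rw [padicValNat.mul (by norm_num) (by omega), padicValNat.self (by norm_num)]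
  have e4 : padicValNat 2 2 = 1 := padicValNat.self (by norm_num)
  omega

/-- [V0b] -/
theorem val_odd_pow {q : ℕ} (hq : q % 4 = 3) (i : ℕ) : (q ^ (2 * i + 1) - 1).factorization 2 = 1 := by
  have h : q ^ (2 * i + 1) % 4 = 3 := by
    induction i with
    | zero => simpa using hq
    | succ k ih =>
      have e : q ^ (2 * (k + 1) + 1) = q ^ (2 * k + 1) * (q * q) := by ring
      rw [e, Nat.mul_mod, ih, Nat.mul_mod q q, hq]
  obtain ⟨c, hc⟩ : ∃ c, q ^ (2 * i + 1) - 1 = 2 * (2 * c + 1) := ⟨q ^ (2 * i + 1) / 4, by omega⟩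
  rw [hc, Nat.factorization_mul (by norm_num) (by omega)]
  have h1 : (2 * c + 1).factorization 2 = 0 :=
    Nat.factorization_eq_zero_of_not_dvd (by omega)
  simp [h1, Nat.prime_two.factorization_self]

/-- [V0c] -/
theorem val_pow_one {q : ℕ} (hq : q % 4 = 1) (h1 : 1 < q) (i : ℕ) :
    (q ^ (i + 1) - 1).factorization 2 = (q - 1).factorization 2 + (i + 1).factorization 2 := by
  have : Fact (Nat.Prime 2) := ⟨Nat.prime_two⟩
  simp only [Nat.factorization_def _ Nat.prime_two]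
  have h4 : (4 : ℤ) ∣ (q : ℤ) - 1 := by omega
  have hx : ¬ (2 : ℤ) ∣ (q : ℤ) := by omega
  have e := Int.two_pow_sub_pow' (x := (q : ℤ)) (y := 1) (i + 1) h4 hx
  rw [one_pow] at e
  have hq1 : 1 ≤ q ^ (i + 1) := Nat.one_le_pow _ _ (by omega)
  have c1 : ((q : ℤ) ^ (i + 1) - 1) = ((q ^ (i + 1) - 1 : ℕ) : ℤ) := by
    push_cast [Nat.cast_sub hq1]; ring
  have c2 : ((q : ℤ) - 1) = ((q - 1 : ℕ) : ℤ) := by
    push_cast [Nat.cast_sub h1.le]; ring
  rw [c1, c2] at e
  have t2 : (2 : ℤ) = ((2 : ℕ) : ℤ) := rfl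
  rw [t2, Int.natCast_emultiplicity, Int.natCast_emultiplicity, Int.natCast_emultiplicity] at e
  have n1 : q ^ (i + 1) - 1 ≠ 0 := by
    have : 1 < q ^ (i + 1) := Nat.one_lt_pow (by omega) h1
    omega
  have n2 : q - 1 ≠ 0 := by omega
  have n3 : i + 1 ≠ 0 := by omega
  rw [← padicValNat_eq_emultiplicity n1, ← padicValNat_eq_emultiplicity n2,
    ← padicValNat_eq_emultiplicity n3] at e
  exact_mod_cast e

end Cfsg.Agent.Lib.Helper23.WrSyl
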