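import Cfsg.Agent.Lib.Helper23.WrSyl.VBase
import Cfsg.Agent.Lib.Helper5.SpOrder

set_option autoImplicit false

namespace Cfsg.Agent.Lib.Helper23.WrSyl

open Cfsg Cfsg.Agent.Lib.Helper58.WrSyl
open scoped MatrixGroups

/-- [V1] -/
theorem val_sp {F : Type*} [Field F] [Fintype F] (hF : Odd (Fintype.card F)) (n : ℕ) :
    (Nat.card (Matrix.symplecticGroup (Fin n) F)).factorization 2 =
      (Nat.card (Wr (Matrix.SpecialLinearGroup (Fin 2) F) n)).factorization 2 := by
  set q := Fintype.card F with hq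
  have hq1 : 1 < q := Fintype.one_lt_card
  have hq2 : ¬ 2 ∣ q := by
    obtain ⟨c, hc⟩ := hF
    omega
  have hq0 : q.factorization 2 = 0 := Nat.factorization_eq_zero_of_not_dvd hq2
  have hne : ∀ i ∈ Finset.range n, q ^ (2 * (i + 1)) - 1 ≠ 0 := by
    intro i _
    have : 1 < q ^ (2 * (i + 1)) := Nat.one_lt_pow (by omega) hq1
    omega
  have hsq : q ^ 2 - 1 ≠ 0 := by
    have : 1 < q ^ 2 := Nat.one_lt_pow (by omega) hq1
    omega
  rw [val_wr, Cfsg.Agent.Lib.Helper5.card_symplecticGroup, Cfsg.Agent.Lib.Helper5.card_SL2, ← hq,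
    Nat.factorization_mul (by positivity) (Finset.prod_ne_zero_iff.mpr hne),
    Nat.factorization_mul (by omega) hsq, Nat.factorization_pow, Nat.factorization_prod hne]
  simp only [Finsupp.coe_add, Finsupp.coe_smul, Pi.add_apply, Pi.smul_apply, hq0, smul_eq_mul,
    mul_zero, zero_add, Finsupp.finsetSum_apply]
  rw [Finset.sum_congr rfl (fun i _ => val_even_pow hF hq1 i), Finset.sum_add_distrib]
  simp

end Cfsg.Agent.Lib.Helper23.WrSyl
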