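import Cfsg.Agent.Lib.Helper23.WrSyl.VBase

set_option autoImplicit false

namespace Cfsg.Agent.Lib.Helper23.WrSyl

open Cfsg Cfsg.Agent.Lib.Helper58.WrSyl
open scoped MatrixGroups

theorem sum_range_two_mul (f : ℕ → ℕ) (m : ℕ) :
    ∑ k ∈ Finset.range (2 * m), f k = ∑ j ∈ Finset.range m, (f (2 * j) + f (2 * j + 1)) := by
  induction m with
  | zero => simp
  | succ k ih =>
    rw [show 2 * (k + 1) = 2 * k + 1 + 1 by ring, Finset.sum_range_succ, Finset.sum_range_succ, ih,
      Finset.sum_range_succ]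
    ring

/-- [V4] -/
theorem val_gl_even {F : Type*} [Field F] [Fintype F] (hF : Fintype.card F % 4 = 3) (m : ℕ) :
    (Nat.card (GL (Fin (2 * m)) F)).factorization 2 =
      (Nat.card (Wr (GL (Fin 2) F) m)).factorization 2 := by
  have hodd : Odd (Fintype.card F) := Nat.odd_iff.mpr (by omega)
  have hq1 : 1 < Fintype.card F := Fintype.one_lt_card
  rw [val_wr, val_gl hodd, val_gl_two hF, sum_range_two_mul]
  have hterm : ∀ j ∈ Finset.range m, ((Fintype.card F ^ (2 * j + 1) - 1).factorization 2 +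
      (Fintype.card F ^ (2 * j + 1 + 1) - 1).factorization 2) =
      ((Fintype.card F ^ 2 - 1).factorization 2 + 1) + (j + 1).factorization 2 := by
    intro j _
    rw [val_odd_pow hF j, show 2 * j + 1 + 1 = 2 * (j + 1) by ring, val_even_pow hodd hq1 j]
    ring
  rw [Finset.sum_congr rfl hterm, Finset.sum_add_distrib]
  simp

/-- [V5] -/
theorem val_gl_odd {F : Type*} [Field F] [Fintype F] (hF : Fintype.card F % 4 = 3) (m : ℕ) :
    (Nat.card (GL (Fin (2 * m + 1)) F)).factorization 2 =
      (Nat.card (Wr (GL (Fin 2) F) m × Fˣ)).factorization 2 := by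
  have hodd : Odd (Fintype.card F) := Nat.odd_iff.mpr (by omega)
  have h0 := val_odd_pow hF 0
  simp only [Nat.mul_zero, Nat.zero_add, pow_one] at h0
  rw [Nat.card_prod, Nat.factorization_mul Nat.card_pos.ne' Nat.card_pos.ne', Nat.card_units,
    Nat.card_eq_fintype_card (α := F), val_gl hodd, Finset.sum_range_succ, ← val_gl hodd,
    val_gl_even hF, val_odd_pow hF m]
  simp [h0]

/-- [V2] -/
theorem val_sl_odd {F : Type*} [Field F] [Fintype F] (hF : Fintype.card F % 4 = 3) (m : ℕ) :
    (Nat.card (Matrix.SpecialLinearGroup (Fin (2 * m + 1)) F)).factorization 2 =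
      (Nat.card (Wr (GL (Fin 2) F) m)).factorization 2 := by
  have hodd : Odd (Fintype.card F) := Nat.odd_iff.mpr (by omega)
  have h0 := val_odd_pow hF 0
  simp only [Nat.mul_zero, Nat.zero_add, pow_one] at h0
  have h1 := val_sl (F := F) (2 * m + 1) (by omega)
  rw [h0, val_gl hodd, Finset.sum_range_succ, ← val_gl hodd, val_gl_even hF, val_odd_pow hF m] at h1
  omega

/-- [V3] -/
theorem val_gl_one {F : Type*} [Field F] [Fintype F] (hF : Fintype.card F % 4 = 1) (n : ℕ) :
    (Nat.card (GL (Fin n) F)).factorization 2 = (Nat.card (Wr Fˣ n)).factorization 2 := by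
  have hodd : Odd (Fintype.card F) := Nat.odd_iff.mpr (by omega)
  have hq1 : 1 < Fintype.card F := Fintype.one_lt_card
  rw [val_wr, val_gl hodd, Nat.card_units, Nat.card_eq_fintype_card (α := F),
    Finset.sum_congr rfl (fun k _ => val_pow_one hF hq1 k), Finset.sum_add_distrib]
  simp

end Cfsg.Agent.Lib.Helper23.WrSyl
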