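import Cfsg.Agent.Lib.Helper58.WrSyl.Defs
import Cfsg.Agent.Lib.Helper5.LinearCard

set_option autoImplicit false

/-! # WrSyl farm (helper58): piece VG, 2-part of the orders of `GL_n(q)`, `SL_n(q)` (helper23) -/

namespace Cfsg.Agent.Lib.Helper23.WrSyl

open Cfsg
open scoped MatrixGroups

/-- [VGa] -/
theorem val_gl {F : Type*} [Field F] [Fintype F] (hF : Odd (Fintype.card F)) (n : ℕ) :
    (Nat.card (GL (Fin n) F)).factorization 2 =
      ∑ k ∈ Finset.range n, (Fintype.card F ^ (k + 1) - 1).factorization 2 := by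
  set q := Fintype.card F with hq
  have hq1 : 1 < q := Fintype.one_lt_card
  have hq2 : ¬ 2 ∣ q := by
    obtain ⟨c, hc⟩ := hF
    omega
  rw [Matrix.card_GL_field, ← hq]
  have hne : ∀ i ∈ (Finset.univ : Finset (Fin n)), q ^ n - q ^ (i : ℕ) ≠ 0 := by
    intro i _
    have : q ^ (i : ℕ) < q ^ n := Nat.pow_lt_pow_right hq1 i.2
    omega
  rw [Nat.factorization_prod hne, Finsupp.finsetSum_apply]
  have hterm : ∀ i : Fin n, (q ^ n - q ^ (i : ℕ)).factorization 2 =
      (q ^ (n - 1 - (i : ℕ) + 1) - 1).factorization 2 := by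
    intro i
    have hi := i.2
    have e : q ^ n - q ^ (i : ℕ) = q ^ (i : ℕ) * (q ^ (n - 1 - (i : ℕ) + 1) - 1) := by
      rw [Nat.mul_sub, mul_one, ← pow_add]
      congr 2
      omega
    have h1 : q ^ (n - 1 - (i : ℕ) + 1) - 1 ≠ 0 := by
      have : 1 < q ^ (n - 1 - (i : ℕ) + 1) := Nat.one_lt_pow (by omega) hq1
      omega
    rw [e, Nat.factorization_mul (by positivity) h1, Nat.factorization_pow]
    simp [Nat.factorization_eq_zero_of_not_dvd hq2]
  rw [Finset.sum_congr rfl (fun i _ => hterm i)]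
  rw [Fin.sum_univ_eq_sum_range (fun i => (q ^ (n - 1 - i + 1) - 1).factorization 2) n]
  exact Finset.sum_range_reflect (fun k => (q ^ (k + 1) - 1).factorization 2) n

/-- [VGb] -/
theorem val_sl {F : Type*} [Field F] [Fintype F] (n : ℕ) (hn : 1 ≤ n) :
    (Nat.card (Matrix.SpecialLinearGroup (Fin n) F)).factorization 2 +
      (Fintype.card F - 1).factorization 2 = (Nat.card (GL (Fin n) F)).factorization 2 := by
  have : Nonempty (Fin n) := ⟨⟨0, hn⟩⟩
  rw [Cfsg.Agent.Lib.Helper5.card_GL_eq_card_SL_mul_card_units (n := Fin n) (F := F),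
    Nat.factorization_mul Nat.card_pos.ne' Nat.card_pos.ne', Nat.card_units,
    Nat.card_eq_fintype_card (α := F)]
  rfl

end Cfsg.Agent.Lib.Helper23.WrSyl
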