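import Cfsg.Agent.Lib.Helper23.WrSyl.V0
import Cfsg.Agent.Lib.Helper23.WrSyl.VG

set_option autoImplicit false

/-! # WrSyl farm (helper58): common lemmas for V1-V5 (helper23) -/

namespace Cfsg.Agent.Lib.Helper23.WrSyl

open Cfsg Cfsg.Agent.Lib.Helper58.WrSyl
open scoped MatrixGroups

theorem card_wr_aux (S : Type*) [Group S] [Finite S] (n : ℕ) :
    Nat.card (Wr S n) = Nat.card S ^ n * n.factorial := by
  rw [Nat.card_congr SemidirectProduct.equivProd, Nat.card_prod, Nat.card_fun, Nat.card_perm]
  simp

theorem val_factorial (n : ℕ) :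
    (n.factorial).factorization 2 = ∑ i ∈ Finset.range n, (i + 1).factorization 2 := by
  induction n with
  | zero => simp
  | succ k ih =>
    rw [Nat.factorial_succ, Nat.factorization_mul (by omega) (Nat.factorial_ne_zero k),
      Finset.sum_range_succ, ← ih]
    simp [add_comm]

theorem val_wr (S : Type*) [Group S] [Finite S] (n : ℕ) :
    (Nat.card (Wr S n)).factorization 2 =
      n * (Nat.card S).factorization 2 + ∑ i ∈ Finset.range n, (i + 1).factorization 2 := by
  rw [card_wr_aux, Nat.factorization_mul (pow_ne_zero _ Nat.card_pos.ne') (Nat.factorial_ne_zero n),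
    Nat.factorization_pow, ← val_factorial]
  simp

theorem val_gl_two {F : Type*} [Field F] [Fintype F] (hF : Fintype.card F % 4 = 3) :
    (Nat.card (GL (Fin 2) F)).factorization 2 = (Fintype.card F ^ 2 - 1).factorization 2 + 1 := by
  have hodd : Odd (Fintype.card F) := Nat.odd_iff.mpr (by omega)
  rw [val_gl hodd 2, Finset.sum_range_succ, Finset.sum_range_one]
  have := val_odd_pow hF 0
  simp only [Nat.mul_zero, Nat.zero_add] at this ⊢
  rw [this, add_comm]

end Cfsg.Agent.Lib.Helper23.WrSyl
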